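import Cfsg.Agent.Lib.U63.IucY
import Cfsg.Agent.Lib.Core.PCore

/-! The starting configuration for `Co₂`. -/

set_option autoImplicit false

namespace H87.U6

open Subgroup Cfsg

namespace IB

open Equiv H87.Mc

theorem coreC {X : Type*} [Group X] [Finite X] {z : X} {Q : Subgroup X} [Q.Normal]
    (hQ : IsExtraspecial 3 Q) (hc : Nat.card Q = 3 ^ 5) (zQ : z ∈ Q) (z1 : z ≠ 1)
    (zc : ∀ g, g * z = z * g) {R : Subgroup (X ⧸ Q)} [R.Normal] (hR : IsExtraspecial 2 R)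
    (cR : Nat.card R = 32) (e : (X ⧸ Q) ⧸ R ≃* alternatingGroup (Fin 5)) (P : Sylow 3 X)
    (hP : ∀ c ∈ P, (∀ x ∈ P, x * c = c * x) → c ∈ Q) : ∃ l t i1 j1 i2 j2, P0 z l t i1 j1 i2 j2 ∧
      Qs z l = Q ∧ (∀ u v : V, u ≠ 0 → v ≠ 0 → ∃ n φ, Ex z l t n φ ∧ φ u = v) ∧
      Nat.card (X ⧸ Q) = 1920 ∧
      ∃ P : Sylow 3 X, ∀ g ∈ (P : Subgroup X), g * (i1 * i1) * g⁻¹ * (i1 * i1) ∈ Q := by
  have : Fact (Nat.Prime 3) := ⟨by norm_num⟩
  have : Fact (Nat.Prime 2) := ⟨by norm_num⟩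
  have hY : Nat.card (X ⧸ Q) = 1920 := by
    rw [card_eq_card_quotient_mul_card_subgroup R, cR, Nat.card_congr e.toEquiv, nat_card_alternatingGroup]
    simp [Nat.factorial]
  obtain ⟨τ, es⟩ := H95.exists_ES hR
  have fa : ∀ {lam ρ}, Co z Q lam ρ → Function.Injective ρ ∧ ρ τ = N := fun {lam ρ} h => by
    refine faith es cR hY (π := e.toMonoidHom.comp (QuotientGroup.mk' R))
      (e.surjective.comp (QuotientGroup.mk'_surjective R)) (by ext; simp) h.sp ?_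
    by_contra! h3
    have QP : Q ≤ P := hQ.1.1.le_sylow_of_normal P
    obtain ⟨y, hy, yQ⟩ := SetLike.exists_of_lt (QP.lt_of_ne fun a => P.not_dvd_index (by
      rw [← a, index_eq_card, hY]; norm_num))
    obtain ⟨n, hn⟩ := P.2 ⟨y, hy⟩
    obtain ⟨r, hr, a⟩ := h3 y
    obtain ⟨q, hq, b⟩ := h.inner (g := y) (by
      rw [← pow_one (ρ y), ← ((by norm_num : Nat.Coprime 4 3).pow_right n).gcd_eq_one, pow_gcd_eq_one]
      exact ⟨by rw [← a, ← map_pow, es.pow_four hr, map_one], by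
        rw [← map_pow, ← QuotientGroup.mk_pow, show y ^ 3 ^ n = 1 from congrArg Subtype.val hn]; simp⟩)
    have c1 := mul_mem (inv_mem (QP hq)) hy
    have c2 : q⁻¹ * y ∉ Q := fun c => yQ ((mul_mem_cancel_left (inv_mem hq)).1 c)
    obtain ⟨k, hk⟩ := IsPGroup.iff_card.1 P.2
    have d := card_subgroup_dvd_card (P : Subgroup X)
    rw [hk, card_eq_card_quotient_mul_card_subgroup Q, hY, hc] at d
    have k6 : k ≤ 6 := not_lt.1 fun c => absurd ((pow_dvd_pow 3 c).trans d) (by norm_num)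
    have := eq_of_lt3 (B := P ⊓ centralizer {q⁻¹ * y}) (SetLike.lt_iff_le_and_exists.2
      ⟨le_inf QP fun x hx => H95.mem_cent_iff.2 (b x hx).symm, _, mem_inf.2 ⟨c1, H95.mem_cent_iff.2 rfl⟩, c2⟩)
      inf_le_left hk (hc ▸ Nat.pow_le_pow_right (by norm_num) k6)
    exact c2 (hP _ c1 fun x hx => H95.mem_cent_iff.1 (this.ge hx).2)
  obtain ⟨lam, ρ, h⟩ := exists_Co hQ hc zQ z1 zc
  obtain ⟨s, sR, s2, s1, st⟩ := exinv es cR
  obtain ⟨lam, ρ, h, hs, -⟩ := h.reb (s := s) (by rw [← map_mul, s2, map_one])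
    ((map_ne_one_iff ρ (fa h).1).2 s1) fun a => st ((fa h).1 (a.trans (fa h).2.symm))
  obtain ⟨hk, ht⟩ := fa h
  obtain ⟨c1, c2⟩ := cenS es cR hY h.sp hk ht sR hs
  obtain ⟨T, hT⟩ := Sylow.exists_subgroup_card_pow_prime 2 (n := 6) c1
  have hF := h.fl (T := T.map (Subgroup.subtype _)) hk
    ((card_map_of_injective (subtype_injective _)).trans hT) hs
    (by rintro _ ⟨n, -, rfl⟩; exact H95.mem_cent_iff.1 n.2)
  obtain ⟨l, t, i1, j1, i2, j2, p, eQ, ac, h1, -⟩ := h.mkP0 hk hF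
  let E := (centralizer {s}).comap (QuotientGroup.mk' Q)
  let P' : Sylow 3 E := default
  refine ⟨l, t, i1, j1, i2, j2, p, eQ, fun u v hu hv => ?_, hY, (P'.2.map E.subtype).toSylow ?_, ?_⟩
  · obtain ⟨g, hg⟩ := trans es hY h.sp hk ht sR hs hF hu hv
    obtain ⟨g, rfl⟩ := QuotientGroup.mk_surjective g
    obtain ⟨n, -, a⟩ := p.exists_ex (ac g)
    exact ⟨_, _, a, hg⟩
  · rw [index_map_subtype, index_comap_of_surjective _ (QuotientGroup.mk'_surjective Q)]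
    exact Nat.Prime.not_dvd_mul (by norm_num) P'.not_dvd_index c2
  · rintro _ ⟨g, -, rfl⟩
    refine Co.cjQ hk ?_
    rw [h1, ← hs, ← map_mul, show ↑(E.subtype g) * s = s * ↑(E.subtype g) from H95.mem_cent_iff.1 g.2,
      map_mul, hs]
    simp [S_sq]

theorem wcC {G : Type*} [Group G] {H : Subgroup G} [Finite H] {z : H} {l : V → H} {t i1 j1 i2 j2 : H}
    (p : P0 z l t i1 j1 i2 j2) (hH : ∀ g : G, g * z = z * g → g ∈ H) {Q : Subgroup H} [Q.Normal]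
    (eQ : Qs z l = Q) (hY : Nat.card (H ⧸ Q) = 1920) {g : G} {k : F3}
    (e : g * z * g⁻¹ = qq z l e1 k) : False := by
  have κ : ∀ c : H, c * qq z l e1 k * c⁻¹ = qq z l e1 k → ∃ u : H, g * u * g⁻¹ = c := fun c hc =>
    ⟨⟨g⁻¹ * c * g, hH _ (by
      have := congrArg Subtype.val hc
      rw [coe_mul, coe_mul, coe_inv, ← e] at this
      rw [cm_cj, ← MulAut.conj_apply (g⁻¹ * c * g), ← (MulAut.conj g).injective.eq_iff]
      simp only [MulAut.conj_apply]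
      rw [← this]; group)⟩, by group⟩
  obtain ⟨I, hI⟩ := κ i2 (A0.ex_q p.e2 _ _)
  have fin : ∀ (u : H) v m, v.2.1 = 0 → v.2.2 ≠ 0 → g * u * g⁻¹ = qq z l v m → (u : H ⧸ Q) ≠ 1 :=
    fun u v m v1 v2 hu h1 => by
    replace h1 : u ∈ Qs z l := eQ ▸ (QuotientGroup.eq_one_iff u).1 h1
    have h2 : g * (I * u * I⁻¹ : H) * g⁻¹ = qq z l (I2 v) m := by
      simp only [← A0.ex_q p.e2, coe_mul, coe_inv, ← hI, ← hu]
      group
    obtain ⟨a, b, e1⟩ := p.memQ.1 h1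
    obtain ⟨a', b', e2⟩ := p.memQ.1 (eQ ▸ Normal.conj_mem inferInstance u (eQ ▸ h1) I)
    obtain ⟨j, e3⟩ : ∃ j : F3, u * (I * u * I⁻¹) * u⁻¹ = I * u * I⁻¹ * z ^ j.val :=
      ⟨-be a a', by rw [e2, e1, p.qcj, qq, qq, sub_eq_add_neg, p.zz, mul_assoc]⟩
    have e4 : qq z l (I2 v) (m - be v (I2 v)) = qq z l (I2 v) m * qq z l IB.e1 k ^ j.val := by
      rw [← p.qcj v _ m]
      refine Subtype.ext ?_
      rw [coe_mul, coe_mul, coe_mul, coe_inv, SubgroupClass.coe_pow, ← h2, ← hu, ← e, conj_pow, conj_mul,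
        conj_inv, conj_mul, conj_mul]
      exact congrArg (fun x : H => g * x * g⁻¹) e3
    rcases f3_cases j with rfl | rfl | rfl
    · rw [pw_zero, mul_one] at e4
      exact (by decide +kernel : ∀ v : V, v.2.1 = 0 → v.2.2 ≠ 0 → be v (I2 v) ≠ 0) v v1 v2
        (sub_eq_self.1 (p.q_inj e4).2)
    · rw [pw_one, p.qmul] at e4
      exact absurd (left_eq_add.1 (p.q_inj e4).1) (by decide)
    · rw [pw_two (p.qcube _ _), p.qinv, p.qmul] at e4
      exact absurd (left_eq_add.1 (p.q_inj e4).1) (by decide)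
  obtain ⟨a, ha⟩ := κ (qq z l e3 0) (by rw [p.qcj]; exact congrArg _ (sub_zero k))
  obtain ⟨b, hb⟩ := κ (qq z l e4 0) (by rw [p.qcj]; exact congrArg _ (sub_zero k))
  let U := (((Qs z l).map H.subtype).comap ((MulAut.conj g).toMonoidHom.comp H.subtype)).map
    (QuotientGroup.mk' Q)
  rcases tri hY (U := U) (by
    rintro _ ⟨u, ⟨x, hx, e⟩, rfl⟩
    rw [← map_pow, show u ^ 3 = 1 from Subtype.ext ((MulAut.conj g).injective (by
      rw [SubgroupClass.coe_pow, map_pow]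
      exact (congrArg (· ^ 3) e).symm.trans (by simpa using congrArg Subtype.val (p.Q3 hx)))), map_one])
    ⟨a, ⟨_, p.qQ _ _, ha.symm⟩, rfl⟩ ⟨b, ⟨_, p.qQ _ _, hb.symm⟩, rfl⟩ with c | c | c | c
  · exact fin a _ _ rfl (by decide) ha c
  · exact fin b _ _ rfl (by decide) hb c
  · exact fin (a⁻¹ * b) (-e3 + e4) _ (by decide) (by decide) (by
      rw [← p.qmul, ← p.qinv, coe_mul, coe_mul, coe_inv, coe_inv, ← ha, ← hb]; group) c
  · exact fin (a * b) (e3 + e4) _ (by decide) (by decide) (by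
      rw [← p.qmul, coe_mul, coe_mul, ← ha, ← hb]; group) c

end IB

open IB

variable {G : Type*} [Group G] [Finite G]

theorem iniC (S : Sylow 3 G) (Z : Subgroup G)
    (hZ : Z = (S : Subgroup G) ⊓ centralizer ((S : Subgroup G) : Set G))
    (C : Subgroup G) (hCZ : C = centralizer (Z : Set G))
    (hQ : IsExtraspecial 3 (pCore 3 C)) (hQcard : Nat.card (pCore 3 C) = 3 ^ 5)
    (hR : IsExtraspecial 2 (pCore 2 (C ⧸ pCore 3 C)))
    (hRcard : Nat.card (pCore 2 (C ⧸ pCore 3 C)) = 2 ^ 5)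
    (e : (C ⧸ pCore 3 C) ⧸ pCore 2 (C ⧸ pCore 3 C) ≃* alternatingGroup (Fin 5))
    (hnwc : ¬ IsWeaklyClosed Z S) :
    ∃ (z : G) (l : V → G) (t i1 j1 i2 j2 : G), P0 z l t i1 j1 i2 j2 ∧ TrQ z l ∧ NW z ∧
      ¬ 3 ^ 7 ∣ Nat.card (centralizer ({z} : Set G)) ∧
      ∃ P : Sylow 3 (centralizer ({z} : Set G)), ∀ g : centralizer ({z} : Set G),
        g ∈ (P : Subgroup (centralizer ({z} : Set G))) →
          (g : G) * (i1 * i1) * (g : G)⁻¹ * (i1 * i1) ∈ Qs z l := by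
  have ZS : Z ≤ S := hZ ▸ inf_le_left
  have SC : (S : Subgroup G) ≤ C := fun s hs => hCZ ▸ fun w hw => ((hZ.le hw).2 s hs).symm
  have cw : ∀ w (hw : w ∈ Z) (g : C), g * ⟨w, SC (ZS hw)⟩ = ⟨w, SC (ZS hw)⟩ * g := fun w hw g =>
    Subtype.ext ((hCZ.le g.2) w hw).symm
  have ZQ : ∀ w (hw : w ∈ Z), ⟨w, SC (ZS hw)⟩ ∈ pCore 3 C := fun w hw =>
    have : (Z.subgroupOf C).Normal := ⟨fun n hn g => by rwa [cw n hn g, mul_inv_cancel_right]⟩
    H1.le_pCore (N := Z.subgroupOf C) (S.2.to_le ZS).comap_subtype hw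
  obtain ⟨z, hz, z1⟩ := SetLike.exists_of_lt (bot_lt_iff_ne_bot.2 fun a : Z = ⊥ =>
    hnwc ⟨ZS, fun g _ => by simp [a]⟩)
  replace z1 : (⟨z, SC (ZS hz)⟩ : C) ≠ 1 := fun a => z1 (congrArg Subtype.val a)
  obtain rfl : Z = zpowers z := le_antisymm (fun w hw => up_zp.2 ((exsp hQ (ZQ z hz) z1
    fun q _ => cw z hz q).2.2 _ (ZQ w hw) fun q _ => (cw w hw q).symm)) (zpowers_le.2 hz)
  rw [cent_zp] at hCZ
  subst hCZ
  obtain ⟨l, t, i1, j1, i2, j2, p, eQ, tr, hY, P, hP⟩ := coreC hQ hQcard (ZQ z hz) z1 (cw z hz) hR hRcard e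
    (S.subtype SC) fun c hc h => ZQ c (hZ.ge ⟨hc, fun x hx => congrArg Subtype.val (h ⟨x, SC hx⟩ hx)⟩)
  have mH : ∀ g, g * z = z * g → g ∈ centralizer {z} := fun g => mem_centralizer_singleton_iff.2
  refine ⟨z, _, _, _, _, _, _, up p mH fun g v k e => by_contra fun v0 => ?_, ?_,
    nw (ZS hz) (fun g hg => mem_centralizer_singleton_iff.1 (SC hg)) hnwc, ?_, P,
    fun g hg => up_Q (eQ ▸ hP g hg)⟩
  · obtain ⟨n, φ, a, b⟩ := tr v e1 v0 (by decide)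
    refine wcC p mH eQ hY (g := n * g) (k := k) ?_
    simp only [← b, ← A0.ex_q a, coe_mul, coe_inv, show (qq _ l v k).1 = _ from e.symm]
    group
  · obtain ⟨n, φ, a, b⟩ := tr (1, 0, 0, 0) (1, 0, 1, 0) (by decide) (by decide)
    exact ⟨n, congrArg Subtype.val a.cz, congrArg Subtype.val (b ▸ a.act _)⟩
  · rw [card_eq_card_quotient_mul_card_subgroup (pCore 3 _), hY, hQcard]
    norm_num

end H87.U6
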