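import Cfsg.Agent.Lib.U63.IucB
import Cfsg.Agent.Lib.LargeExtra.Basic

/-! The group `2^(1+4).A₅` acting on `Q / Z`. -/

set_option autoImplicit false

namespace H87.U6.IB

open Subgroup Equiv H87.Mc

theorem five' {s f : Perm V} (hs : s ∈ Sp) (h2 : s * s = 1) (h1 : s ≠ 1) (hN : s ≠ N) (hf : f ∈ Sp)
    (h5 : f ^ 5 = 1) (r2 : f * s * f⁻¹ * s = s * (f * s * f⁻¹)) : f = 1 := by
  have k : f * f * s = s * (f * f) := by
    rcases inv4 hs h2 h1 hN (mul_mem (mul_mem hf hs) (inv_mem hf)) (by rw [conj_mul, h2]; simp) r2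
      with a | a | a | a
    · exact absurd (by simpa using a) h1
    · rw [mul_inv_eq_iff_eq_mul, ← N_comm hf, mul_right_inj] at a
      exact absurd a hN
    · rw [mul_inv_eq_iff_eq_mul] at a
      rw [mul_assoc, a, ← mul_assoc, a, mul_assoc]
    · rw [mul_inv_eq_iff_eq_mul] at a
      rw [mul_assoc, a, ← mul_assoc, ← mul_assoc, N_comm hf, mul_assoc N, a, ← mul_assoc,
        ← mul_assoc, N_sq, one_mul, mul_assoc]
  exact pow_one f ▸ pow_gcd_eq_one.2 ⟨(sq f).trans (five hs h2 h1 hN (mul_mem hf hf)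
    (by rw [← sq, ← pow_mul, mul_comm, pow_mul, h5, one_pow]) k), h5⟩

variable {Y : Type*} [Group Y] [Finite Y] {R : Subgroup Y} {τ : Y} {ρ : Y →* Perm V}

omit [Finite Y] in
theorem no_sec {π : Y →* alternatingGroup (Fin 5)} (sp : ∀ g, ρ g ∈ Sp) (hK : ρ.ker ≤ π.ker)
    {M : Subgroup Y} (h1 : M.map π = ⊤) (h2 : ∀ m ∈ M, π m = 1 → ρ m = 1) : False := by
  have sur : Function.Surjective (π.comp M.subtype) := fun a => by
    obtain ⟨m, hm, e⟩ := (h1 ▸ mem_top a : a ∈ M.map π)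
    exact ⟨⟨m, hm⟩, e⟩
  let θ := (π.comp M.subtype).liftOfSurjective sur ⟨ρ.comp M.subtype, fun m => h2 m m.2⟩
  have e : ∀ m : M, θ (π m) = ρ m := MonoidHom.liftOfRightInverse_comp_apply _ _ _ _
  refine no_A5 θ (fun a => ?_) ((injective_iff_map_eq_one θ).2 fun a ha => ?_) <;>
    obtain ⟨m, rfl⟩ := sur a
  · exact e m ▸ sp m
  · exact hK ((e m).symm.trans ha)

theorem ex5 (hY : Nat.card Y = 1920) : ∃ f : Y, f ^ 5 = 1 ∧ f ≠ 1 := by
  have : Fact (Nat.Prime 5) := ⟨by norm_num⟩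
  obtain ⟨f, hf⟩ := exists_prime_orderOf_dvd_card' (G := Y) 5 (by rw [hY]; norm_num)
  exact ⟨f, hf ▸ pow_orderOf_eq_one f, fun e => by simp [e] at hf⟩

theorem faith [nR : R.Normal] (es : H95.ES R τ) (hR : Nat.card R = 32) (hY : Nat.card Y = 1920)
    {π : Y →* alternatingGroup (Fin 5)} (sur : Function.Surjective π) (ker : π.ker = R)
    (sp : ∀ g, ρ g ∈ Sp) (h3 : ∃ y, ρ y ∉ R.map ρ) : Function.Injective ρ ∧ ρ τ = N := by
  have hK : ρ.ker ≤ R := by
    rcases (Normal.map inferInstance π sur : (ρ.ker.map π).Normal).eq_bot_or_eq_top with e | e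
    · exact ker ▸ (Subgroup.map_eq_bot_iff _).1 e
    · obtain ⟨y, hy⟩ := h3
      obtain ⟨k, hk, e⟩ := (e ▸ mem_top (π y) : _ ∈ ρ.ker.map π)
      exact (hy ⟨k⁻¹ * y, ker ▸ by simp [e], by simp [MonoidHom.mem_ker.1 hk]⟩).elim
  obtain ⟨f, f5, f1⟩ := ex5 hY
  have fR : f ∉ R := fun e => f1 (pow_one f ▸ pow_gcd_eq_one.2 ⟨es.pow_four e, f5⟩)
  have tc : ∀ g, g * τ = τ * g := fun g =>
    H95.mem_cent_iff.1 (es.normalizer_le (by simp [normalizer_eq_top]))
  have k5 : ∀ x ∈ R, ρ x * ρ x = 1 → ρ (f * x * f⁻¹) * ρ x = ρ x * ρ (f * x * f⁻¹) →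
      ρ x = 1 ∨ ρ x = N := fun x hx a b => by
    by_contra! c
    exact fR (hK (five' (sp x) a c.1 c.2 (sp f) (by rw [← map_pow, f5, map_one]) (by simpa using b)))
  rcases k5 τ es.mem (by rw [← map_mul, es.sq, map_one]) (by rw [← map_mul, ← map_mul, tc]) with e | e
  · exfalso
    have h2 := IsH.card_dvd (H := R) (φ := ρ) (fun x _ y _ => map_mul ρ x y) (A := zpowers N) (K := ρ.ker)
      (fun x hx => (H95.mem_zpowers_iff_of_sq N_sq).2 (k5 x hx
        (by rcases es.sq_mem hx with a | a <;> simp [← map_mul, a, e])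
        (by rcases es.comm _ (nR.1 x hx f) x hx with a | a <;> rw [← map_mul, a] <;> simp [e])))
      fun _ _ => id
    rw [hR, Nat.card_zpowers, H95.orderOf_eq_two_of N_sq (by decide +kernel)] at h2
    by_cases hRK : R ≤ ρ.ker
    · exact no_sec sp (ker ▸ hK) (map_top_of_surjective π sur) fun m _ a => hRK (ker ▸ a)
    have c1 : Nat.card ρ.ker < 32 := hR ▸ not_le.1 fun a => hRK (eq_of_card hK a).ge
    have c2 := card_mod (by norm_num) f5 ρ.ker fun b hb => ρ.normal_ker.1 b hb f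
    have c3 := card_mod (by norm_num) f5 R fun b hb => nR.1 b hb f
    have c4 := card_dvd_of_le (inf_le_left : ρ.ker ⊓ centralizer {f} ≤ _)
    have c5 := card_dvd_of_le (inf_le_left : R ⊓ centralizer {f} ≤ _)
    have c6 := card_le_of_le (inf_le_inf_right (centralizer {f}) hK)
    have c7 : Nat.card (ρ.ker ⊓ centralizer {f} : Subgroup Y) ≠ 1 := fun a =>
      es.ne_one (mem_bot.1 (card_eq_one.1 a ▸ (⟨e, H95.mem_cent_iff.2 (tc f).symm⟩ :
        τ ∈ ρ.ker ⊓ centralizer {f})))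
    have c8 : Nat.card ρ.ker = 16 := by have := Nat.card_pos (α := ρ.ker); omega
    rw [c8] at c2 c4
    rw [hR] at c3 c5
    have c9 := eq_of_card (inf_le_left : R ⊓ centralizer {f} ≤ _) (by
      have := Nat.le_of_dvd (by norm_num) c4
      have := Nat.le_of_dvd (by norm_num) c5
      generalize Nat.card (ρ.ker ⊓ centralizer {f} : Subgroup Y) = a at *
      generalize Nat.card (R ⊓ centralizer {f} : Subgroup Y) = b at *
      interval_cases a <;> interval_cases b <;> omega)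
    rcases (Normal.map inferInstance π sur : ((centralizer (R : Set Y)).map π).Normal).eq_bot_or_eq_top
      with a | a
    · exact fR (ker ▸ (Subgroup.map_eq_bot_iff _).1 a fun x hx => H95.mem_cent_iff.1 (c9.ge hx).2)
    · refine no_sec sp (ker ▸ hK) a fun m hm b => ?_
      rcases es.nondeg m (ker ▸ b) fun x hx => (hm x hx).symm with rfl | rfl
      exacts [map_one ρ, e]
  · refine ⟨(injective_iff_map_eq_one ρ).2 fun k hk => by_contra fun k1 => ?_, e⟩
    have n1 : N ≠ 1 := by decide +kernel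
    obtain ⟨y, -, a⟩ := es.exists_conj (hK hk) k1 fun a => n1 (e.symm.trans (a ▸ hk))
    exact n1 (by simpa [hk, e] using (congrArg ρ a).symm)

theorem exinv (es : H95.ES R τ) (hR : Nat.card R = 32) : ∃ s ∈ R, s * s = 1 ∧ s ≠ 1 ∧ s ≠ τ := by
  by_contra! h
  have k : ∀ x ∈ R, x ∉ zpowers τ → x * x = τ := fun x hx a => (es.sq_mem hx).resolve_left fun b =>
    a (es.mem_zpowers.2 (Or.inr (h x hx b fun c => a (c ▸ one_mem _))))
  obtain ⟨x, hx, x1⟩ := exists_not_mem (A := R) (B := zpowers τ)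
    (by rw [Nat.card_zpowers, es.orderOf_eq, hR]; norm_num)
  have c := es.card_centralizer hx (fun c => x1 (c ▸ one_mem _)) fun c => x1 (c ▸ mem_zpowers _)
  have o := orderOf_le_of_pow_eq_one (by norm_num) (es.pow_four hx)
  obtain ⟨y, ⟨hy, xy⟩, y1⟩ := exists_not_mem (A := R ⊓ centralizer {x}) (B := zpowers x)
    (by rw [Nat.card_zpowers]; omega)
  have t : zpowers τ ≤ zpowers x := zpowers_le.2 (k x hx x1 ▸ mul_mem (mem_zpowers x) (mem_zpowers x))
  have := k _ (mul_mem hx hy) fun a => y1 ((mul_mem_cancel_left (mem_zpowers x)).1 (t a))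
  rw [mul_assoc, ← mul_assoc y, H95.mem_cent_iff.1 xy, mul_assoc, k y hy fun a => y1 (t a), ← mul_assoc,
    k x hx x1, es.sq] at this
  exact es.ne_one this.symm

theorem cenS [nR : R.Normal] (es : H95.ES R τ) (hR : Nat.card R = 32) (hY : Nat.card Y = 1920)
    (sp : ∀ g, ρ g ∈ Sp) (hk : Function.Injective ρ) (ht : ρ τ = N) {s : Y} (sR : s ∈ R) (hs : ρ s = S) :
    64 ∣ Nat.card (centralizer {s}) ∧ ¬ 3 ∣ (centralizer {s}).index := by
  have s2 : s * s = 1 := hk (by rw [map_mul, hs, S_sq, map_one])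
  have s1 : s ≠ 1 := fun e => S_ne.1 (by rw [← hs, e, map_one])
  have st : s ≠ τ := fun e => S_ne.2 (by rw [← hs, e, ht])
  let B : Set Y := (R : Set Y) \ (R ⊓ centralizer {s} : Subgroup Y)
  let I : Set Y := {x | x ∈ B ∧ x * x = 1}
  have c1 : B.ncard = 16 := by
    have := es.card_centralizer sR s1 st
    rw [Set.ncard_sdiff (inf_le_left : R ⊓ centralizer {s} ≤ R), ← Nat.card_coe_set_eq,
      ← Nat.card_coe_set_eq]
    simp only [SetLike.coe_sort_coe]
    omega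
  have c2 : I.ncard + I.ncard ≤ 16 := by
    have k : ∀ x ∈ I, x * s ∈ B ∧ x * s ∉ I := fun x ⟨⟨a, b⟩, c⟩ => by
      have d : x * s ≠ s * x := fun e => b ⟨a, H95.mem_cent_iff.2 e⟩
      refine ⟨⟨mul_mem a sR, fun e => d ?_⟩, fun e => d ?_⟩
      · simpa [← mul_assoc] using H95.mem_cent_iff.1 e.2
      · rw [eq_inv_of_mul_eq_one_left e.2, mul_inv_rev, inv_eq_of_mul_eq_one_left c,
          inv_eq_of_mul_eq_one_left s2]
    nth_rw 2 [← Set.ncard_image_of_injective I (mul_left_injective s)]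
    rw [← Set.ncard_union_eq (Set.disjoint_right.2 (by rintro _ ⟨x, hx, rfl⟩; exact (k x hx).2)), ← c1]
    exact Set.ncard_le_ncard (Set.union_subset (fun x hx => hx.1) (by
      rintro _ ⟨x, hx, rfl⟩; exact (k x hx).1))
  have c3 := card_le_mul ⊤ s (insert s (insert (τ * s) I)) fun g _ => by
    have g2 : g * s * g⁻¹ * (g * s * g⁻¹) = 1 := by rw [conj_mul, s2]; simp
    by_cases a : g * s * g⁻¹ * s = s * (g * s * g⁻¹)
    · rcases inv4S (sp (g * s * g⁻¹)) (by rw [← map_mul, g2, map_one])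
        (by rw [← hs, ← map_mul, a, map_mul]) with b | b | b | b
      · exact absurd (by simpa using (map_eq_one_iff ρ hk).1 b) s1
      · rw [map_mul, map_mul, map_inv, mul_inv_eq_iff_eq_mul, ← N_comm (sp g), mul_right_inj, hs] at b
        exact absurd b S_ne.2
      · exact Or.inl (hk (b.trans hs.symm))
      · exact Or.inr (Or.inl (hk (by rw [b, map_mul ρ τ, ht, hs])))
    · exact Or.inr (Or.inr ⟨⟨nR.1 s sR g, fun e => a (H95.mem_cent_iff.1 e.2)⟩, g2⟩)
  have c4 := Set.ncard_insert_le s (insert (τ * s) I)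
  have c5 := Set.ncard_insert_le (τ * s) I
  have c6 := (centralizer {s}).card_mul_index
  have c7 : ¬ 5 ∣ Nat.card (centralizer {s}) := fun a => by
    have : Fact (Nat.Prime 5) := ⟨by norm_num⟩
    obtain ⟨f, hf⟩ := exists_prime_orderOf_dvd_card' 5 a
    have f5 : f.1 ^ 5 = 1 := congrArg Subtype.val (hf ▸ pow_orderOf_eq_one f)
    have := five S_mem S_sq S_ne.1 S_ne.2 (sp f) (by rw [← map_pow, f5, map_one])
      (by rw [← hs, ← map_mul, H95.mem_cent_iff.1 f.2, map_mul])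
    simp [show f = 1 from Subtype.ext ((map_eq_one_iff ρ hk).1 this)] at hf
  rw [card_top, top_inf_eq] at c3
  rw [hY] at c3 c6
  have c8 : (centralizer {s}).index ≤ 10 := Nat.le_of_mul_le_mul_left
    (c6 ▸ c3.trans (by rw [mul_comm]; gcongr; omega)) (Nat.card_pos (α := centralizer {s}))
  generalize (centralizer {s}).index = n at *
  interval_cases n <;> omega

theorem tri (hY : Nat.card Y = 1920) {U : Subgroup Y} (hU : ∀ u ∈ U, u ^ 3 = 1) {a b : Y} (ha : a ∈ U)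
    (hb : b ∈ U) : a = 1 ∨ b = 1 ∨ a⁻¹ * b = 1 ∨ a * b = 1 := by
  have : Fact (Nat.Prime 3) := ⟨by norm_num⟩
  refine or_iff_not_imp_left.2 fun a1 => ?_
  obtain ⟨n, hn⟩ := IsPGroup.iff_card.1 (pg3 (k := 1) hU)
  have d := card_subgroup_dvd_card U
  rw [hn, hY] at d
  have n1 : n ≤ 1 := not_lt.1 fun e => absurd ((pow_dvd_pow 3 e).trans d) (by norm_num)
  have e := eq_of_card (zpowers_le.2 ha)
    (by rw [hn, card_z3 (hU a ha) a1]; exact Nat.pow_le_pow_right (by norm_num) n1)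
  rcases (mem_z3 (hU a ha)).1 (e ▸ hb) with rfl | rfl | rfl <;> simp

theorem trans (es : H95.ES R τ) (hY : Nat.card Y = 1920) (sp : ∀ g, ρ g ∈ Sp)
    (hk : Function.Injective ρ) (ht : ρ τ = N) {s : Y} (sR : s ∈ R) (hs : ρ s = S) (hF : Fl ρ.range)
    {u v : V} (hu : u ≠ 0) (hv : v ≠ 0) : ∃ g, ρ g u = v := by
  have q : ∀ u v : W, (u = 0 ↔ v = 0) → ∃ A ∈ Q8, m2 A u = v := by decide +kernel
  have k : ∀ x y : V, ((x.1, x.2.1) = 0 ↔ (y.1, y.2.1) = 0) → (x.2.2 = 0 ↔ y.2.2 = 0) →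
      ∃ g, ρ g x = y := fun x y a b => by
    obtain ⟨A, hA, a⟩ := q _ _ a
    obtain ⟨B, hB, b⟩ := q _ _ b
    obtain ⟨_, ⟨g, rfl⟩, e⟩ := hF A hA B hB
    exact ⟨g, by rw [e, bk, a, b]⟩
  have tr : ∀ {x y w : V}, (∃ g, ρ g x = y) → (∃ g, ρ g y = w) → ∃ g, ρ g x = w :=
    fun ⟨g, a⟩ ⟨g', b⟩ => ⟨g' * g, by rw [map_mul, Perm.mul_apply, a, b]⟩
  have k1 : ∀ v : V, v ≠ 0 → ∃ g, ρ g e1 = v := fun v hv => by
    by_cases a : v.2.2 = 0
    · exact k _ _ (by revert v; decide +kernel) (by simp [a, e1])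
    by_cases b : (v.1, v.2.1) = 0
    · obtain ⟨y, -, e⟩ := es.exists_conj sR (fun e => S_ne.1 (by rw [← hs, e, map_one]))
        fun e => S_ne.2 (by rw [← hs, e, ht])
      have e' : ρ y (-e1) = S (N (ρ y e1)) := by
        rw [← Perm.mul_apply S, ← Perm.mul_apply, ← hs, ← ht, ← map_mul, ← map_mul, ← e,
          inv_mul_cancel_right, map_mul, hs]
        rfl
      have e'' : ρ y e1 ≠ 0 := fun e => absurd ((ρ y).injective (e.trans (sp_zero (sp y)).symm)) (by decide)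
      rw [sp_neg (sp y)] at e'
      have := (by decide +kernel : ∀ w : V, w ≠ 0 → -w = S (N w) → (w.1, w.2.1) = 0 ∧ w.2.2 ≠ 0) _ e'' e'
      exact tr ⟨y, rfl⟩ (k _ _ (by simp [this, b]) (by simp [this, a]))
    · obtain ⟨f, f5, f1⟩ := ex5 hY
      obtain ⟨w, hw⟩ := not_forall.1 (mt (mixed (sp f) (by rw [← map_pow, f5, map_one]))
        (mt (map_eq_one_iff ρ hk).1 f1))
      obtain ⟨w2, hw⟩ := _root_.not_imp.1 hw
      have := (by decide +kernel : ∀ w : V, ¬ (S w = w ∨ S w = -w) → (w.1, w.2.1) ≠ 0 ∧ w.2.2 ≠ 0) _ hw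
      refine tr (k _ w ?_ (by simp [w2, e1])) (tr ⟨f, rfl⟩ (k _ _ (by simp [this, b]) (by simp [this, a])))
      refine iff_of_false (by decide) fun e => hw (Or.inl ?_)
      rw [show w = 0 from Prod.ext (Prod.ext_iff.1 e).1 (Prod.ext (Prod.ext_iff.1 e).2 w2), sp_zero (sp f)]
      rfl
  obtain ⟨g, rfl⟩ := k1 u hu
  exact tr ⟨g⁻¹, by simp⟩ (k1 v hv)

end H87.U6.IB
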