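import Cfsg.Agent.Lib.U63.Ini
import Cfsg.Agent.Lib.U63.SG
import Cfsg.Agent.Lib.U63.MD
import Cfsg.Agent.Lib.U63.KA
import Cfsg.Agent.Lib.U63.EN

/-! The 3-local recognition of `Co₂` from the configuration in coordinates. -/

set_option autoImplicit false

namespace H87.U6

open Subgroup H87.Mc Cfsg A0

variable {G : Type*} [Group G] [Finite G] {z : G} {l : V → G} {t i1 j1 i2 j2 : G}

theorem mainC (h : P0 z l t i1 j1 i2 j2) (tq : TrQ z l) (nw : NW z)
    (h7 : ¬ 3 ^ 7 ∣ Nat.card (centralizer ({z} : Set G))) (P : Sylow 3 (centralizer ({z} : Set G)))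
    (hP : ∀ g : centralizer ({z} : Set G), g ∈ (P : Subgroup (centralizer ({z} : Set G))) →
      (g : G) * (i1 * i1) * (g : G)⁻¹ * (i1 * i1) ∈ Qs z l) : Spor.IsoCo2 G := by
  obtain ⟨y, J, st, a⟩ := ini h P hP nw
  obtain ⟨h0, a1, a2, -, -⟩ := Cf.exists_cf st a
  obtain ⟨h1, nc, b1, b2, -⟩ := h0.exists_nc
  obtain ⟨E, Sg, σ, S⟩ := h1.exists_sx nc
  have e := h1.six_of (by rwa [b1, a1])
  exact S.endC (S.kl6 e fun _ => S.inv0 e) e (by rwa [b1, b2, a1, a2]) (S.n128 e)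

end H87.U6
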